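import Cfsg.Agent.Lib.Sporadic.ONPresented
import Cfsg.Agent.Lib.Sporadic.ONData.ONFastChecks

/-!
Words in the letters of the presented O'Nan group, evaluated through the fast rows.
-/

set_option autoImplicit false
set_option maxRecDepth 100000

open Cfsg.Spor

namespace CfsgLib.Sporadic.CosetCert.ONP.OutON

open ONData (table fastRows)

/-- The element of a word, letters in order of application. -/
noncomputable def el (L : List ℕ) : ON := appProd coding.gen L

theorem el_append (A B : List ℕ) : el (A ++ B) = el B * el A := appProd_append _ A B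

theorem el_nil : el [] = 1 := rfl

theorem el_single (x : ℕ) : el [x] = coding.gen x := one_mul _

theorem el_cons (x : ℕ) (L : List ℕ) : el (x :: L) = el L * coding.gen x := rfl

theorem el_flatten (L : List ℕ) : ∀ k, el (List.replicate k L).flatten = el L ^ k :=
  CfsgLib.Sporadic.CosetCert.appProd_replicate coding.gen L

/-- The word of the inverse. -/
def invW (L : List ℕ) : List ℕ :=
  L.reverse.map fun x => if x = 0 then 1 else if x = 1 then 0 else x

theorem gen_inv' {x : ℕ} (hx : x < 8) :
    coding.gen (if x = 0 then 1 else if x = 1 then 0 else x) = (coding.gen x)⁻¹ := by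
  have h : ∀ x < 8, Nat.mod (Nat.shiftRight 0x76543201 (Nat.mul 4 x)) 16 =
      (if x = 0 then 1 else if x = 1 then 0 else x) := by decide
  rw [← h x hx]
  exact coding.gen_inv hx

theorem el_invW {L : List ℕ} (hL : ∀ x ∈ L, x < 8) : el (invW L) = (el L)⁻¹ := by
  induction L with
  | nil => simp [invW, el_nil]
  | cons x t ih =>
    have h := ih fun y hy => hL y (List.mem_cons_of_mem _ hy)
    rw [invW] at h ⊢
    rw [List.reverse_cons, List.map_append, el_append, h, List.map_cons, List.map_nil, el_single,
      gen_inv' (hL x List.mem_cons_self), el_cons, mul_inv_rev]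

/-- Evaluate a function at a numeral. -/
noncomputable def frc {α : Type} (k : ℕ → α) (n : ℕ) : α :=
  Nat.rec (motive := fun _ => α) (k 0) (fun w _ => k (Nat.succ w)) n

theorem frc_eq {α : Type} (k : ℕ → α) (n : ℕ) : frc k n = k n := by cases n <;> rfl

/-- The fast row of a letter. -/
noncomputable def rowF (x : ℕ) : ℕ → ℕ := fastRows.getD x id

/-- The image of a point under a word. -/
noncomputable def runW (L : List ℕ) (v : ℕ) : ℕ := PTab.runL (L.map rowF) v

theorem runW_append (A : List ℕ) : ∀ (B : List ℕ) (v : ℕ), runW (A ++ B) v = runW B (runW A v) := by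
  induction A with
  | nil => intro B v; rfl
  | cons x t ih =>
    intro B v
    show PTab.runL (rowF x :: (t ++ B).map rowF) v = runW B (PTab.runL (rowF x :: t.map rowF) v)
    rw [PTab.runL_cons, PTab.runL_cons]
    exact ih B _

theorem runW_nil (v : ℕ) : runW [] v = v := rfl

/-- A word only uses letters. -/
def okW (L : List ℕ) : Bool := L.all fun x => Nat.blt x 8

theorem okW_spec {L : List ℕ} (h : okW L = true) : ∀ x ∈ L, x < 8 := by
  simpa [okW, List.all_eq_true] using h

theorem okW_append {A B : List ℕ} (hA : okW A = true) (hB : okW B = true) : okW (A ++ B) = true := by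
  simp only [okW, List.all_append] at *
  simp [hA, hB]

theorem okW_flatten {L : List ℕ} (h : okW L = true) (k : ℕ) : okW (List.replicate k L).flatten = true := by
  induction k with
  | zero => rfl
  | succ k ih => rw [List.replicate_succ, List.flatten_cons]; exact okW_append h ih

theorem img_el {L : List ℕ} (hL : okW L = true) (u : Fin table.N) :
    ((hom (el L) u : Fin table.N) : ℕ) = runW L u := by
  have h1 := PTab.hom_imgW hom_acts L (okW_spec hL) u
  have h2 := (ONData.imgW_fast L hL u u.2).1
  exact h1.trans h2

theorem el_apply {L : List ℕ} (hL : okW L = true) (k : ℕ) (u : Fin table.N) :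
    ((hom (el L ^ k) u : Fin table.N) : ℕ) = runW (List.replicate k L).flatten u := by
  rw [← el_flatten, img_el (okW_flatten hL k)]

theorem hom_comm {a b : ON} (h : Commute a b) (u : Fin table.N) :
    hom a (hom b u) = hom b (hom a u) := by
  rw [← Equiv.Perm.mul_apply, ← map_mul, h.eq, map_mul, Equiv.Perm.mul_apply]

theorem hom_inv (g : ON) (u : Fin table.N) : hom g⁻¹ (hom g u) = u := by
  rw [map_inv, Equiv.Perm.inv_def, Equiv.symm_apply_apply]

end CfsgLib.Sporadic.CosetCert.ONP.OutON
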