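import Cfsg.Agent.Lib.Sporadic.ONOut.Checks

/-!
Three points of the presented O'Nan group have trivial stabiliser.
-/

set_option autoImplicit false
set_option maxRecDepth 100000

open Cfsg.Spor

namespace CfsgLib.Sporadic.CosetCert.ONP.OutON

open ONData (table)

attribute [local irreducible] runW PTab.img

theorem inner_spec {L : List ℕ} (h : innerW L = true) :
    (∀ x ∈ L, x ∈ lH) ∧ okW L = true := by
  simp only [innerW, List.all_eq_true, Bool.and_eq_true, Nat.ble_eq] at h
  refine ⟨fun x hx => ?_, List.all_eq_true.2 fun x hx => by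
    simp only [Nat.blt_eq]; have := h x hx; omega⟩
  have := h x hx
  simp only [lH, List.mem_cons, List.not_mem_nil, or_false]
  omega

theorem mem_imH_of_inner {L : List ℕ} (h : innerW L = true) : hom (el L) ∈ imH :=
  Subgroup.mem_map_of_mem hom (coding.appProd_mem_sub (l := lH) (inner_spec h).1)

theorem mem_imH {q : ON} (h : hom q pt = pt) : hom q ∈ imH :=
  Subgroup.mem_map_of_mem hom (mem_sub_of_fix h)

theorem card_chain_le {Z P : Subgroup (Equiv.Perm (Fin table.N))}
    {L : List (ℕ × List (List ℕ) × List (ℕ × ℕ × ℕ))} {fixed : List ℕ}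
    (h : table.chainWOK L fixed = true)
    (hmem : ∀ e ∈ L, ∀ w ∈ e.2.1, hom (el w) ∈ P) (hZ : Z ≤ P)
    (hfix : ∀ e ∈ L, ∀ u : Fin table.N, (u : ℕ) = e.1 → ∀ z ∈ Z, z u = u) :
    Nat.card Z * PTab.chainWProd L ≤ Nat.card P :=
  PTab.chainW_le_card hom_acts Z L fixed P h (fun e he w hw _ => hmem e he w hw) hZ hfix

theorem eq_one_of_base {q : ON} (h0 : hom q pt = pt)
    (h1 : ∀ u : Fin table.N, (u : ℕ) = b1 → hom q u = u)
    (h2 : ∀ u : Fin table.N, (u : ℕ) = b2 → hom q u = u) : q = 1 := by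
  have := finite
  have h := base_ok
  simp only [baseK, Bool.and_eq_true, List.all_eq_true, Nat.beq_eq] at h
  obtain ⟨⟨⟨hc, hp⟩, hW⟩, hb⟩ := h
  have hb' : baseChain.map (fun e => e.1) = [b1, b2] := eq_of_beq hb
  have hle := card_chain_le (Z := Subgroup.zpowers (hom q)) (P := imH) hc
    (fun e he w hw => mem_imH_of_inner (hW e he w hw).1)
    (Subgroup.zpowers_le.2 (mem_imH h0)) (by
      intro e he u hu z hz
      have hmem : e.1 ∈ [b1, b2] := hb' ▸ List.mem_map_of_mem he
      have hle : Subgroup.zpowers (hom q) ≤ MulAction.stabilizer _ u := Subgroup.zpowers_le.2 (by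
        simp only [List.mem_cons, List.not_mem_nil, or_false] at hmem
        rcases hmem with e' | e'
        · exact h1 u (hu.trans e')
        · exact h2 u (hu.trans e'))
      exact hle hz)
  rw [card_imH, hp] at hle
  have h1' : Nat.card (Subgroup.zpowers (hom q)) ≤ 1 :=
    Nat.le_of_mul_le_mul_right (by rwa [one_mul]) (by norm_num)
  rw [Nat.card_zpowers] at h1'
  have hpos : 0 < orderOf (hom q) := orderOf_pos _
  have h2' : hom q = 1 := orderOf_eq_one_iff.1 (by omega)
  exact card_eq.2 (h2'.trans (map_one _).symm)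

theorem eq_of_sameK {A B : List ℕ} (h : sameK A B = true) : el A = el B := by
  simp only [sameK, Bool.and_eq_true, Nat.beq_eq] at h
  obtain ⟨⟨⟨⟨hA, hB⟩, h0⟩, h1⟩, h2⟩ := h
  have key : ∀ u : Fin table.N, runW A u = runW B u → hom ((el B)⁻¹ * el A) u = u := by
    intro u e
    rw [map_mul, map_inv, Equiv.Perm.mul_apply, Equiv.Perm.inv_def, Equiv.symm_apply_eq]
    exact Fin.ext (by rw [img_el hA, img_el hB, e])
  exact (inv_mul_eq_one.1 (eq_one_of_base (key pt h0) (fun u e => key u (e ▸ h1))
    (fun u e => key u (e ▸ h2)))).symm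

theorem ne_of_sameK {A B : List ℕ} (hA : okW A = true) (hB : okW B = true) (h : sameK A B = false) :
    el A ≠ el B := by
  intro e
  have hb : b1 < table.N ∧ b2 < table.N := by decide +kernel
  have key : ∀ u : Fin table.N, runW A u = runW B u := fun u => by
    rw [← img_el hA, ← img_el hB, e]
  have h0 : Nat.beq (runW A 0) (runW B 0) = true := Nat.beq_eq.mpr (key pt)
  have h1 : Nat.beq (runW A b1) (runW B b1) = true := Nat.beq_eq.mpr (key ⟨b1, hb.1⟩)
  have h2 : Nat.beq (runW A b2) (runW B b2) = true := Nat.beq_eq.mpr (key ⟨b2, hb.2⟩)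
  simp [sameK, hA, hB, h0, h1, h2] at h

end CfsgLib.Sporadic.CosetCert.ONP.OutON
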