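import Cfsg.Agent.Lib.Sporadic.ONOut.Types

/-!
The element of order eleven is its own centraliser.
-/

set_option autoImplicit false
set_option maxRecDepth 100000

open Cfsg.Spor

namespace CfsgLib.Sporadic.CosetCert.ONP.OutON

open ONData (table forest)

attribute [local irreducible] runW walk PTab.img

theorem runW_one (L : List ℕ) (x : ℕ) : runW (List.replicate 1 L).flatten x = runW L x := by
  simp

theorem runW_two (L : List ℕ) (x : ℕ) : runW (List.replicate 2 L).flatten x = runW L (runW L x) := by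
  simp [List.replicate_succ, runW_append]

theorem runW_four (L : List ℕ) (x : ℕ) :
    runW (List.replicate 4 L).flatten x = runW L (runW L (runW L (runW L x))) := by
  simp [List.replicate_succ, runW_append]

theorem runW_zero (L : List ℕ) (x : ℕ) : runW (List.replicate 0 L).flatten x = x := by
  rw [List.replicate_zero, List.flatten_nil, runW_nil]

theorem scanK_spec {s : ℕ} : ∀ {n : ℕ}, scanK s n = true → ∀ i < n, backK (s + i) = true := by
  intro n
  induction n with
  | zero => intro _ i hi; omega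
  | succ n ih =>
    intro h i hi
    simp only [scanK, Bool.and_eq_true] at h
    rcases Nat.lt_or_eq_of_le (Nat.le_of_lt_succ hi) with hi | rfl
    · exact ih h.2 i hi
    · exact h.1

theorem back_all (v : ℕ) (hv : v < table.N) : backK v = true := by
  have hN : table.N = 122760 := rfl
  have h : ∀ c < 16, scanK (c * 7680) (min 7680 (122760 - c * 7680)) = true := by
    intro c hc
    interval_cases c
    exacts [scan0_ok, scan1_ok, scan2_ok, scan3_ok, scan4_ok, scan5_ok, scan6_ok, scan7_ok, scan8_ok,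
      scan9_ok, scan10_ok, scan11_ok, scan12_ok, scan13_ok, scan14_ok, scan15_ok]
  have := scanK_spec (h (v / 7680) (by omega)) (v % 7680) (by omega)
  rwa [Nat.div_add_mod' v 7680] at this

/-- The short element of order eleven. -/
noncomputable def T0 : ON := el t0W

/-- The element of order eleven. -/
noncomputable def T : ON := el tW

theorem cycle_rep (v : Fin table.N) : ∃ (k : ℕ) (r : Fin table.N),
    hom (T0 ^ k) r = v ∧ (testT r = true → (r : ℕ) ∈ cyc) := by
  have hok : okW t0W = true := by decide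
  suffices ∀ (n : ℕ) (v : Fin table.N), backAt v = n → ∃ (k : ℕ) (r : Fin table.N),
      hom (T0 ^ k) r = v ∧ (testT r = true → (r : ℕ) ∈ cyc) from this _ v rfl
  intro n
  induction n with
  | zero =>
    intro v hv
    refine ⟨0, v, by rw [pow_zero, map_one, Equiv.Perm.one_apply], fun ht => ?_⟩
    have h := back_all v v.2
    simp only [backK, frc_eq, hv, ht, Bool.not_true, Bool.false_or] at h
    simpa using h
  | succ n ih =>
    intro v hv
    have h := back_all v v.2
    simp only [backK, frc_eq, hv] at h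
    have hw : runW (invW t0W) v = (hom T0⁻¹ v : Fin table.N) := by
      rw [T0, ← el_invW (okW_spec hok), img_el (by decide)]
    have h' : backAt (hom T0⁻¹ v : Fin table.N) = n := by
      rw [← hw]
      simpa using h
    obtain ⟨k, r, hk, hr⟩ := ih _ h'
    refine ⟨k + 1, r, ?_, hr⟩
    rw [pow_succ', map_mul, Equiv.Perm.mul_apply, hk, ← Equiv.Perm.mul_apply, ← map_mul, mul_inv_cancel,
      map_one, Equiv.Perm.one_apply]

theorem cyc_at : ∀ i < 11, ∀ h : p0 < table.N,
    ((hom (T0 ^ i) ⟨p0, h⟩ : Fin table.N) : ℕ) = cyc.getD i 0 := by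
  have hK := cyc_ok
  simp only [cycK, Bool.and_eq_true, List.all_eq_true, List.mem_range, Nat.beq_eq] at hK
  obtain ⟨⟨⟨⟨⟨⟨⟨⟨⟨⟨⟨hlen, h0⟩, -⟩, hstep⟩, -⟩, -⟩, -⟩, ht⟩, -⟩, -⟩, -⟩, -⟩ := hK
  intro i
  induction i with
  | zero => intro _ h; rw [pow_zero, map_one, Equiv.Perm.one_apply]; exact h0.symm
  | succ i ih =>
    intro hi h
    rw [pow_succ', map_mul, Equiv.Perm.mul_apply, T0, img_el ht]
    refine Eq.trans ?_ (hstep i (by omega))
    exact congrArg (runW t0W) (by have := ih (by omega) h; rwa [T0] at this)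

theorem cent_T0 {q : ON} (hq : Commute q T0) : ∃ i : ℕ, q = T0 ^ i := by
  have hc := cyc_at
  have hK := cyc_ok
  simp only [cycK, Bool.and_eq_true, List.all_eq_true, List.mem_range, Nat.beq_eq, Nat.blt_eq] at hK
  obtain ⟨⟨⟨⟨⟨⟨⟨⟨⟨⟨⟨hlen, -⟩, hp⟩, -⟩, hA⟩, hB⟩, hC⟩, ht⟩, hu⟩, hup⟩, ⟨hb1, hb2⟩⟩, -⟩ := hK
  let P0 : Fin table.N := ⟨p0, hp⟩
  obtain ⟨k, r, hk, hr⟩ := cycle_rep (hom q P0)
  let q' : ON := (T0 ^ k)⁻¹ * q
  have hq' : Commute q' T0 := ((Commute.refl T0).pow_left k).inv_left.mul_left hq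
  have hq0 : hom q' P0 = r := by
    show hom ((T0 ^ k)⁻¹ * q) P0 = r
    rw [map_mul, Equiv.Perm.mul_apply, ← hk, hom_inv]
  have him : ∀ j : ℕ, ((hom q' (hom (T0 ^ j) P0) : Fin table.N) : ℕ) =
      runW (List.replicate j t0W).flatten r := by
    intro j
    rw [hom_comm (hq'.pow_right j), hq0, T0, el_apply ht]
  have hstep : ∀ j : ℕ, ((hom (T0 ^ j) P0 : Fin table.N) : ℕ) = runW (List.replicate j t0W).flatten p0 :=
    fun j => by rw [T0, el_apply ht]
  have key : ∀ (m : ℕ), ∀ j : ℕ, pairIn m p0 (runW (List.replicate j t0W).flatten p0) = true →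
      pairMay m r (runW (List.replicate j t0W).flatten r) = true := by
    intro m j h
    rw [← hstep j] at h
    have := pairMay_of_pairIn (a := P0) h q'
    rwa [hq0, him j] at this
  have e1 : ∀ x, runW (List.replicate 1 t0W).flatten x = t0At x := fun x => by
    rw [runW_one, t0At]
  have e2 : ∀ x, runW (List.replicate 2 t0W).flatten x = t0At (t0At x) := fun x => by
    rw [runW_two, t0At, t0At]
  have e4 : ∀ x, runW (List.replicate 4 t0W).flatten x = t0At (t0At (t0At (t0At x))) := fun x => by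
    rw [runW_four, t0At, t0At, t0At, t0At]
  have t1 := key _  1 (by rwa [e1])
  have t2 := key _  2 (by rwa [e2])
  have t4 := key _  4 (by rwa [e4])
  rw [e1] at t1; rw [e2] at t2; rw [e4] at t4
  have htest : testT r = true := by simp only [testT, frc_eq, t1, t2, t4, cond_true]
  obtain ⟨i, hi, hri⟩ := List.mem_iff_getElem.1 (hr htest)
  have hri' : hom (T0 ^ i) P0 = r := Fin.ext (by
    rw [hc i (hlen ▸ hi) hp, List.getD_eq_getElem _ _ hi, hri])
  let q'' : ON := (T0 ^ i)⁻¹ * q'
  have hq'' : Commute q'' T0 := ((Commute.refl T0).pow_left i).inv_left.mul_left hq'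
  have hfix : ∀ j : ℕ, hom q'' (hom (T0 ^ j) P0) = hom (T0 ^ j) P0 := by
    intro j
    rw [hom_comm (hq''.pow_right j)]
    congr 1
    show hom ((T0 ^ i)⁻¹ * q') P0 = P0
    rw [map_mul, Equiv.Perm.mul_apply, hq0, ← hri', hom_inv]
  have hone : (el uW)⁻¹ * q'' * el uW = 1 := by
    have haux : ∀ (j : ℕ) (u : Fin table.N), runW (invW uW) (runW (List.replicate j t0W).flatten p0) = u →
        hom ((el uW)⁻¹ * q'' * el uW) u = u := by
      intro j u e
      have hu' : hom (el uW)⁻¹ (hom (T0 ^ j) P0) = u := Fin.ext (by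
        rw [← el_invW (okW_spec hu), img_el (by decide), hstep j, e])
      have hu2 : hom (el uW) u = hom (T0 ^ j) P0 := by
        rw [← hu', map_inv, Equiv.Perm.inv_def, Equiv.apply_symm_apply]
      rw [map_mul, map_mul, Equiv.Perm.mul_apply, Equiv.Perm.mul_apply, hu2, hfix j, hu']
    refine eq_one_of_base (haux 0 _ ?_) (fun u e => haux _ u (hb1.trans e.symm))
      (fun u e => haux _ u (hb2.trans e.symm))
    rw [runW_zero]
    have := img_el (L := invW uW) (by decide) P0
    rw [el_invW (okW_spec hu)] at this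
    rw [← this, ← (show hom (el uW) pt = P0 from Fin.ext ((img_el hu _).trans hup)), hom_inv]
  have h1 : q'' = 1 := by
    calc q'' = el uW * ((el uW)⁻¹ * q'' * el uW) * (el uW)⁻¹ := by group
      _ = 1 := by rw [hone]; group
  refine ⟨k + i, ?_⟩
  have : q = T0 ^ k * (T0 ^ i * q'') := by simp only [q'', q']; group
  rw [this, h1, mul_one, pow_add]

theorem T_eq : T = (el uW)⁻¹ * T0 * el uW := by
  have h := cyc_ok
  simp only [cycK, Bool.and_eq_true] at h
  obtain ⟨⟨⟨⟨-, hu⟩, -⟩, -⟩, hs⟩ := h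
  rw [T, eq_of_sameK hs, el_append, el_append, el_invW (okW_spec hu), T0, mul_assoc]

theorem cent_T {q : ON} (hq : Commute q T) : ∃ i : ℕ, q = T ^ i := by
  have hT := T_eq
  obtain ⟨i, hi⟩ := cent_T0 (q := el uW * q * (el uW)⁻¹) (by
    show _ = _
    have := hq.eq
    rw [hT] at this
    calc el uW * q * (el uW)⁻¹ * T0 = el uW * (q * ((el uW)⁻¹ * T0 * el uW)) * (el uW)⁻¹ := by group
      _ = el uW * ((el uW)⁻¹ * T0 * el uW * q) * (el uW)⁻¹ := by rw [this]
      _ = T0 * (el uW * q * (el uW)⁻¹) := by group)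
  refine ⟨i, ?_⟩
  rw [hT, show ((el uW)⁻¹ * T0 * el uW) ^ i = (el uW)⁻¹ * T0 ^ i * el uW by
    simpa using conj_pow (i := i) (a := (el uW)⁻¹) (b := T0), ← hi]
  group

end CfsgLib.Sporadic.CosetCert.ONP.OutON
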