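import Cfsg.Agent.Lib.Sporadic.ONOut.Defs

/-!
Checks for the outer automorphism group of the presented O'Nan group: fixed points.
-/

set_option autoImplicit false
set_option maxRecDepth 100000
set_option maxHeartbeats 0
set_option Elab.async false

namespace CfsgLib.Sporadic.CosetCert.ONP.OutON

theorem fix0_ok : fixK 0 30690 = true := by decide +kernel
theorem fix1_ok : fixK 30690 30690 = true := by decide +kernel
theorem fix2_ok : fixK 61380 30690 = true := by decide +kernel
theorem fix3_ok : fixK 92070 30690 = true := by decide +kernel

end CfsgLib.Sporadic.CosetCert.ONP.OutON
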