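import Cfsg.Agent.Lib.Sporadic.ONOut.Defs

/-!
Checks for the outer automorphism group of the presented O'Nan group: the scan of cycles.
-/

set_option autoImplicit false
set_option maxRecDepth 100000
set_option maxHeartbeats 0
set_option Elab.async false

namespace CfsgLib.Sporadic.CosetCert.ONP.OutON

theorem scan0_ok : scanK 0 7680 = true := by decide +kernel
theorem scan1_ok : scanK 7680 7680 = true := by decide +kernel

end CfsgLib.Sporadic.CosetCert.ONP.OutON
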