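import Cfsg.Agent.Lib.Sporadic.ONOut.Defs

/-!
Checks for the outer automorphism group of the presented O'Nan group: words.
-/

set_option autoImplicit false
set_option maxRecDepth 100000
set_option maxHeartbeats 0
set_option Elab.async false

namespace CfsgLib.Sporadic.CosetCert.ONP.OutON

theorem cyc_ok : cycK = true := by decide +kernel
theorem tny_ok : tnyK = true := by decide +kernel
theorem point_ok : pointK = true := by decide +kernel
theorem s_ok : sK = true := by decide +kernel
theorem root_ok : rootK = true := by decide +kernel
theorem refute_ok : refuteK = true := by decide +kernel
theorem sym_ok : symK = true := by decide +kernel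
theorem cand_ok : candK = true := by decide +kernel
theorem base_ok : baseK = true := by decide +kernel
theorem five_ok : fiveK = true := by decide +kernel

end CfsgLib.Sporadic.CosetCert.ONP.OutON
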