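import Cfsg.Agent.Lib.Sporadic.ONOut.CheckScan0
import Cfsg.Agent.Lib.Sporadic.ONOut.CheckScan1
import Cfsg.Agent.Lib.Sporadic.ONOut.CheckScan2
import Cfsg.Agent.Lib.Sporadic.ONOut.CheckScan3
import Cfsg.Agent.Lib.Sporadic.ONOut.CheckScan4
import Cfsg.Agent.Lib.Sporadic.ONOut.CheckScan5
import Cfsg.Agent.Lib.Sporadic.ONOut.CheckScan6
import Cfsg.Agent.Lib.Sporadic.ONOut.CheckScan7
import Cfsg.Agent.Lib.Sporadic.ONOut.CheckFix
import Cfsg.Agent.Lib.Sporadic.ONOut.CheckWords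
import Cfsg.Agent.Lib.Sporadic.ONOut.CheckSlp

/-!
Checks for the outer automorphism group of the presented O'Nan group, collected.
-/
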