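import Cfsg.Agent.Lib.Sporadic.ONOut.Words
import Cfsg.Agent.Lib.Sporadic.ONOut.Data

/-!
# Checks for the outer automorphism group of the presented O'Nan group
-/

set_option autoImplicit false

namespace CfsgLib.Sporadic.CosetCert.ONP.OutON

open ONData (table forest)

/-- The letters of a packed word. -/
def unp (w : ℕ × ℕ) : List ℕ := PTab.unpack w

/-- Two words agree on the three base points. -/
noncomputable def sameK (A B : List ℕ) : Bool :=
  okW A && okW B && Nat.beq (runW A 0) (runW B 0) && Nat.beq (runW A b1) (runW B b1) &&
    Nat.beq (runW A b2) (runW B b2)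

/-- The words of a level of a chain only use the letters of the stabiliser. -/
def innerW (L : List ℕ) : Bool := L.all fun x => Nat.ble 2 x && Nat.ble x 7

/-- The chain of the base. -/
noncomputable def baseK : Bool :=
  table.chainWOK baseChain [0] && Nat.beq (PTab.chainWProd baseChain) 3753792 &&
    (baseChain.all fun e => e.2.1.all fun w => innerW w && Nat.beq (runW w 0) 0) &&
    baseChain.map (fun e => e.1) == [b1, b2]

/-- A letter moving a point towards the base point. -/
noncomputable def parAt (v : ℕ) : ℕ := parT.get 3 v

/-- Carry a pair of points so that the first becomes the base point: the second plus one, or zero. -/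
noncomputable def walk (f : ℕ) : ℕ → ℕ → ℕ :=
  Nat.rec (motive := fun _ => ℕ → ℕ → ℕ) (fun v x => bif Nat.beq v 0 then Nat.succ x else 0)
    (fun _ ih v x => bif Nat.beq v 0 then Nat.succ x else
      frc (fun l => bif Nat.blt l 8 then
        frc (fun v' => frc (ih v') (rowF l x)) (rowF l v) else 0) (parAt v))
    f

/-- The pair surely has the given type. -/
noncomputable def pairIn (c v x : ℕ) : Bool :=
  frc (fun r => Nat.blt 0 r && Nat.beq (forest.cls (Nat.pred r)) c) (walk 18 v x)

/-- The pair may have the given type. -/
noncomputable def pairMay (c v x : ℕ) : Bool :=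
  frc (fun r => Nat.beq r 0 || Nat.beq (forest.cls (Nat.pred r)) c) (walk 18 v x)

/-- The image under the short element of order eleven. -/
noncomputable def t0At (v : ℕ) : ℕ := runW t0W v

/-- The tests on a representative of a cycle. -/
noncomputable def testT (v : ℕ) : Bool :=
  frc (fun a => bif pairMay 3 v a then
    frc (fun b => bif pairMay 3 v b then
      frc (fun c => pairMay 4 v c) (t0At (t0At b)) else false) (t0At a) else false) (t0At v)

/-- The place in the cycle. -/
noncomputable def backAt (v : ℕ) : ℕ := backT.get 4 v

/-- The place of a point in its cycle goes down by one along the inverse, and representatives passing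
the tests lie in the known cycle. -/
noncomputable def backK (v : ℕ) : Bool :=
  frc (fun k => bif Nat.beq k 0 then !(testT v) || cyc.any (fun c => Nat.beq c v)
    else frc (fun w => Nat.beq (Nat.succ (backAt w)) k) (runW (invW t0W) v)) (backAt v)

/-- Check `n` points from `s`. -/
noncomputable def scanK (s n : ℕ) : Bool :=
  Nat.rec (motive := fun _ => Bool) true (fun i ih => backK (Nat.add s i) && ih) n

/-- The listed cycle is that of the chosen point. -/
noncomputable def cycK : Bool :=
  Nat.beq cyc.length 11 && Nat.beq (cyc.getD 0 0) p0 && Nat.blt p0 table.N &&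
    ((List.range 10).all fun i => Nat.beq (t0At (cyc.getD i 0)) (cyc.getD (i + 1) 0)) &&
    pairIn 3 p0 (t0At p0) && pairIn 3 p0 (t0At (t0At p0)) &&
    pairIn 4 p0 (t0At (t0At (t0At (t0At p0)))) &&
    okW t0W && okW uW && Nat.beq (runW uW 0) p0 &&
    (let a := runW (List.replicate (bIx.getD 0 0) t0W).flatten p0
     let b := runW (List.replicate (bIx.getD 1 0) t0W).flatten p0
     Nat.beq (runW (invW uW) a) b1 && Nat.beq (runW (invW uW) b) b2) &&
    sameK tW (uW ++ t0W ++ invW uW)

/-- The points fixed by the letter, on some points. -/
noncomputable def fixK (s n : ℕ) : Bool :=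
  Nat.rec (motive := fun _ => Bool) true
    (fun i ih => (!(Nat.beq (rowF zx (Nat.add s i)) (Nat.add s i)) ||
      fixA.any fun c => Nat.beq c (Nat.add s i)) && ih) n

/-- The two five cycles of candidates. -/
noncomputable def fiveCyc (a : ℕ) : List ℕ := (List.range 5).map fun i => runW (List.replicate i n2W).flatten a

/-- The tests on a point fixed by the involution. -/
noncomputable def testZ (v : ℕ) : Bool :=
  frc (fun a => bif pairMay 3 v a then pairMay 1 v (runW n2W a) else false) (runW n2W v)

/-- The candidate points. -/
noncomputable def candK : Bool :=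
  fixA.all fun c => frc (fun v => !(testZ v) || (fiveCyc pz ++ fiveCyc p2).any fun d => Nat.beq d v)
    (runW wW c)

/-- The candidates for elements commuting with the involution and the element of order five. -/
def candWs : List (List ℕ) :=
  sWs.flatMap fun s => (List.range 5).map fun i => unp s ++ (List.replicate i n2W).flatten

/-- The facts about the chosen fixed points and the words. -/
noncomputable def pointK : Bool :=
  Nat.blt pz table.N && Nat.blt p2 table.N && okW zW && okW n2W && okW wW && Nat.blt zx 8 &&
    sameK zW (invW wW ++ [zx] ++ wW) &&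
    Nat.beq (runW upW 0) pz && Nat.beq (runW up2W 0) p2 && okW upW && okW up2W && okW g1W &&
    pairIn 3 pz (runW n2W pz) && pairIn 1 pz (runW n2W (runW n2W pz)) &&
    ((List.range 5).all fun k =>
      Nat.beq (runW (invW upW) ((fiveCyc pz).getD k 0)) (t5.getD k 0)) &&
    Nat.beq (runW zW pz) pz

/-- The sets of the second level of the chain of the five cycle. -/
def orbit84 : List ℕ :=
  let e := fiveChain.getD 1 (0, [], [])
  e.1 :: e.2.2.map fun o => o.1

/-- The chain of the five cycle. -/
noncomputable def fiveK : Bool :=
  table.chainWOK fiveChain [0] &&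
    Nat.beq (PTab.chainWProd fiveChain) 3753792 &&
    Nat.beq (PTab.chainWProd (fiveChain.take 3)) 938448 &&
    Nat.beq (PTab.chainWProd (fiveChain.take 1)) 5586 &&
    Nat.beq (PTab.chainWProd (fiveChain.drop 1)) 672 &&
    (fiveChain.all fun e => e.2.1.all fun w => innerW w && Nat.beq (runW w 0) 0) &&
    ((fiveChain.take 3).map fun e => e.1) == [t5.getD 1 0, t5.getD 2 0, t5.getD 3 0] &&
    (let W := (fiveChain.getD 1 (0, [], [])).2.1
     (fiveChain.getD 2 (0, [], [])).2.1 == ix3.map (fun l => (l.map fun i => W.getD i []).flatten) &&
     (fiveChain.getD 3 (0, [], [])).2.1 == ix4.map (fun l => (l.map fun i => W.getD i []).flatten) &&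
     (ix3 ++ ix4).all (fun l => l.all fun i => Nat.blt i W.length) &&
     W.all fun w => orbit84.all fun c => orbit84.any fun d => Nat.beq (runW w c) d)

/-- The other five cycle is not reached. -/
noncomputable def refuteK : Bool :=
  Nat.beq (runW g1W 0) 0 &&
    Nat.beq (runW g1W (t5.getD 1 0)) (runW (invW up2W) ((fiveCyc p2).getD 1 0)) &&
    !(orbit84.any fun d => Nat.beq d (runW (invW g1W) (runW (invW up2W) ((fiveCyc p2).getD 2 0))))

/-- The four elements fixing the five cycle. -/
noncomputable def sK : Bool :=
  let keys := sWs.map fun s => [runW (unp s) 0, runW (unp s) b1, runW (unp s) b2]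
  (sWs.all fun s => okW (unp s) && (List.range 4).all fun k =>
      Nat.beq (runW (unp s) ((fiveCyc pz).getD k 0)) ((fiveCyc pz).getD k 0)) &&
    Nat.beq sWs.length 4 &&
    (List.range 4).all (fun i => (List.range i).all fun j => !(keys.getD i [] == keys.getD j []))

/-- The candidates squaring to the involution. -/
noncomputable def rootK : Bool :=
  candWs.all fun c => !(sameK (c ++ c) zW) || sameK c yW || sameK c (invW yW)

/-- The relations between the three chosen elements. -/
noncomputable def tnyK : Bool :=
  okW tW && okW nW && okW yW &&
    sameK (List.replicate 11 tW).flatten [] && !(sameK tW []) &&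
    sameK (tW ++ nW) (nW ++ (List.replicate 2 tW).flatten) &&
    sameK zW (List.replicate 5 nW).flatten && sameK n2W (nW ++ nW) && sameK (yW ++ yW) zW &&
    !(sameK zW []) && sameK (yW ++ n2W) (n2W ++ yW)

/-- The word of an element of the derivation. -/
def slpAt (i : ℕ) : List ℕ := unp (slpWs.getD i (0, 0))

/-- The derivation of the generators. -/
noncomputable def slpK : Bool :=
  slpWs.all (fun w => okW (unp w)) &&
    sameK (slpAt 0) tW && sameK (slpAt 1) nW && sameK (slpAt 2) yW &&
    sameK (slpAt 3) (invW tW) && sameK (slpAt 4) (invW nW) && sameK (slpAt 5) (invW yW) &&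
    Nat.beq slpWs.length (6 + slpOps.length) &&
    ((List.range slpOps.length).all fun j =>
      let o := slpOps.getD j (0, 0)
      Nat.blt o.1 (6 + j) && Nat.blt o.2 (6 + j) &&
        sameK (slpAt o.1 ++ slpAt o.2) (slpAt (6 + j))) &&
    Nat.beq slpTops.length 8 &&
    (List.range 8).all fun x =>
      Nat.blt (slpTops.getD x slpWs.length) slpWs.length &&
        sameK (slpAt (slpTops.getD x slpWs.length)) [x]

/-- The word of an image. -/
def symAt (i : ℕ) : List ℕ := unp (symWs.getD i (0, 0))

/-- The letters of images of a word. -/
def symWord (L : List ℕ) : List ℕ := L.flatMap symAt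

/-- The symmetry respects the relators and moves the element of order four to its inverse. -/
noncomputable def symK : Bool :=
  Nat.beq symWs.length 8 && symWs.all (fun w => okW (unp w)) &&
    sameK (symAt 1) (invW (symAt 0)) &&
    ([2, 3, 4, 5, 6, 7].all fun i => sameK (invW (symAt i)) (symAt i)) &&
    (allRels.all fun r => sameK (symWord (appWord code cinv r)) []) &&
    sameK (symWord tW) tW && sameK (symWord nW) nW && sameK (symWord yW) (invW yW)

end CfsgLib.Sporadic.CosetCert.ONP.OutON
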