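import Cfsg.Agent.Lib.Sporadic.ONOut.Cent

/-!
The elements commuting with the involution and the element of order five.
-/

set_option autoImplicit false
set_option maxRecDepth 100000

open Cfsg.Spor

namespace CfsgLib.Sporadic.CosetCert.ONP.OutON

open ONData (table forest)

attribute [local irreducible] runW walk PTab.img

/-- The involution. -/
noncomputable def Z : ON := el zW

/-- The element of order five. -/
noncomputable def F : ON := el n2W

theorem fixK_spec {s : ℕ} : ∀ {n : ℕ}, fixK s n = true → ∀ i < n,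
    rowF zx (s + i) = s + i → s + i ∈ fixA := by
  intro n
  induction n with
  | zero => intro _ i hi; omega
  | succ n ih =>
    intro h i hi
    simp only [fixK, Bool.and_eq_true] at h
    rcases Nat.lt_or_eq_of_le (Nat.le_of_lt_succ hi) with hi | rfl
    · exact ih h.2 i hi
    · intro e
      have h1 := h.1
      simp only [Nat.add_eq, Nat.beq_eq.mpr e, Bool.not_true, Bool.false_or, List.any_eq_true,
        Nat.beq_eq] at h1
      obtain ⟨c, hc, rfl⟩ := h1
      exact hc

theorem fix_all {v : ℕ} (hv : v < table.N) (h : rowF zx v = v) : v ∈ fixA := by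
  have hN : table.N = 122760 := rfl
  have hK : ∀ c < 4, fixK (c * 30690) 30690 = true := by
    intro c hc
    interval_cases c
    exacts [fix0_ok, fix1_ok, fix2_ok, fix3_ok]
  have := fixK_spec (hK (v / 30690) (by omega)) (v % 30690) (Nat.mod_lt _ (by norm_num))
    (by rwa [Nat.div_add_mod' v 30690])
  rwa [Nat.div_add_mod' v 30690] at this

theorem point_facts : pz < table.N ∧ p2 < table.N ∧ okW zW = true ∧ okW n2W = true ∧ okW wW = true ∧
    zx < 8 ∧ sameK zW (invW wW ++ [zx] ++ wW) = true ∧ runW upW 0 = pz ∧ runW up2W 0 = p2 ∧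
    okW upW = true ∧ okW up2W = true ∧ okW g1W = true ∧
    pairIn 3 pz (runW n2W pz) = true ∧ pairIn 1 pz (runW n2W (runW n2W pz)) = true ∧
    (∀ k < 5, runW (invW upW) ((fiveCyc pz).getD k 0) = t5.getD k 0) ∧ runW zW pz = pz := by
  have h := point_ok
  simp only [pointK, Bool.and_eq_true, List.all_eq_true, List.mem_range, Nat.beq_eq, Nat.blt_eq] at h
  tauto

theorem fiveCyc_getD (a : ℕ) {k : ℕ} (hk : k < 5) :
    (fiveCyc a).getD k 0 = runW (List.replicate k n2W).flatten a := by
  simp [fiveCyc, List.getD_eq_getElem?_getD, hk]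

theorem F_apply (k : ℕ) (u : Fin table.N) :
    ((hom (F ^ k) u : Fin table.N) : ℕ) = runW (List.replicate k n2W).flatten u :=
  el_apply point_facts.2.2.2.1 k u

theorem image_cases {q : ON} (hz : Commute q Z) (hf : Commute q F) :
    ∃ (k : ℕ) (b : Fin table.N), ((b : ℕ) = pz ∨ (b : ℕ) = p2) ∧
      hom q ⟨pz, point_facts.1⟩ = hom (F ^ k) b := by
  obtain ⟨hp, hp2, hzW, hn, hw, hx, hzw, -, -, -, -, -, hA, hB, -, hzp⟩ := point_facts
  let P : Fin table.N := ⟨pz, hp⟩
  have hfixP : hom Z P = P := Fin.ext ((img_el hzW P).trans hzp)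
  have hv : hom Z (hom q P) = hom q P := by rw [← hom_comm hz, hfixP]
  have he : Z = el wW * coding.gen zx * (el wW)⁻¹ := by
    rw [Z, eq_of_sameK hzw, el_append, el_append, el_invW (okW_spec hw), el_single, ← mul_assoc]
  have hc : hom (coding.gen zx) (hom (el wW)⁻¹ (hom q P)) = hom (el wW)⁻¹ (hom q P) := by
    have hh := congrArg (hom (el wW)⁻¹) hv
    rw [he, map_mul, map_mul, Equiv.Perm.mul_apply, Equiv.Perm.mul_apply, hom_inv] at hh
    exact hh
  have hmem := fix_all (hom (el wW)⁻¹ (hom q P)).2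
    (by
      rw [rowF, ← (ONData.table_fast zx hx _ (hom (el wW)⁻¹ (hom q P)).2).1, ← hom_acts.img_eq zx hx]
      exact congrArg Fin.val hc)
  have hcand := cand_ok
  simp only [candK, List.all_eq_true, frc_eq] at hcand
  have h := hcand _ hmem
  have hwv : runW wW (hom (el wW)⁻¹ (hom q P) : Fin table.N) = (hom q P : Fin table.N) := by
    rw [← img_el hw, ← Equiv.Perm.mul_apply, ← map_mul, mul_inv_cancel, map_one, Equiv.Perm.one_apply]
  rw [hwv] at h
  have him1 : (hom q (hom F P) : Fin table.N).val = runW n2W (hom q P : Fin table.N) := by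
    rw [hom_comm hf, F, img_el hn]
  have him2 : (hom q (hom F (hom F P)) : Fin table.N).val =
      runW n2W (runW n2W (hom q P : Fin table.N)) := by
    rw [hom_comm hf, hom_comm hf, F, img_el hn, img_el hn]
  have t1 := pairMay_of_pairIn  (a := P) (b := hom F P) (by rw [F, img_el hn]; exact hA) q
  have t2 := pairMay_of_pairIn  (a := P) (b := hom F (hom F P))
    (by rw [F, img_el hn, img_el hn]; exact hB) q
  rw [him1] at t1
  rw [him2] at t2
  simp only [testZ, frc_eq, t1, cond_true, t2, Bool.not_true, Bool.false_or, List.any_eq_true,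
    List.mem_append, Nat.beq_eq] at h
  obtain ⟨d, hd, rfl⟩ := h
  have hkey : ∀ a, ∀ ha : a < table.N, (hom q P : Fin table.N).val ∈ fiveCyc a →
      ∃ k : ℕ, hom q P = hom (F ^ k) ⟨a, ha⟩ := by
    intro a ha hd
    simp only [fiveCyc, List.mem_map, List.mem_range] at hd
    obtain ⟨k, -, e⟩ := hd
    exact ⟨k, Fin.ext (e.symm.trans (F_apply k ⟨a, ha⟩).symm)⟩
  rcases hd with hd | hd
  · obtain ⟨k, hk⟩ := hkey pz hp hd
    exact ⟨k, _, Or.inl rfl, hk⟩
  · obtain ⟨k, hk⟩ := hkey p2 hp2 hd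
    exact ⟨k, _, Or.inr rfl, hk⟩

theorem five_facts : table.chainWOK fiveChain [0] = true ∧
    PTab.chainWProd fiveChain = 3753792 ∧ PTab.chainWProd (fiveChain.take 3) = 938448 ∧
    PTab.chainWProd (fiveChain.take 1) = 5586 ∧ PTab.chainWProd (fiveChain.drop 1) = 672 ∧
    (∀ e ∈ fiveChain, ∀ w ∈ e.2.1, innerW w = true ∧ runW w 0 = 0) := by
  have h := five_ok
  simp only [fiveK, Bool.and_eq_true, List.all_eq_true, Nat.beq_eq] at h
  tauto

theorem five_shape : ∃ (W₁ W : List (List ℕ)) (O₁ O₂ : List (ℕ × ℕ × ℕ)) (e₃ e₄ : ℕ × List (List ℕ) × List (ℕ × ℕ × ℕ)),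
    fiveChain = [(t5.getD 1 0, W₁, O₁), (t5.getD 2 0, W, O₂), e₃, e₄] ∧ e₃.1 = t5.getD 3 0 ∧
      e₃.2.1 = ix3.map (fun l => (l.map fun i => W.getD i []).flatten) ∧
      e₄.2.1 = ix4.map (fun l => (l.map fun i => W.getD i []).flatten) ∧
      (∀ l ∈ ix3 ++ ix4, ∀ i ∈ l, i < W.length) ∧
      (∀ w ∈ W, ∀ c ∈ orbit84, runW w c ∈ orbit84) := by
  have h := five_ok
  simp only [fiveK, Bool.and_eq_true, List.all_eq_true, List.any_eq_true, Nat.beq_eq, Nat.blt_eq] at h
  obtain ⟨⟨-, hm⟩, ⟨⟨h3, h4⟩, hl⟩, hcl⟩ := h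
  have hlen : fiveChain.length = 4 := by decide +kernel
  obtain ⟨⟨a1, W₁, O₁⟩, ⟨a2, W, O₂⟩, e₃, e₄, e⟩ : ∃ a b c d, fiveChain = [a, b, c, d] := by
    match hh : fiveChain, hlen with
    | [a, b, c, d], _ => exact ⟨a, b, c, d, rfl⟩
  have hm' := eq_of_beq hm
  rw [e] at hm' h3 h4 hcl hl
  simp only [List.take, List.map_cons, List.map_nil, List.cons.injEq, and_true] at hm'
  obtain ⟨m1, m2, m3⟩ := hm'
  refine ⟨W₁, W, O₁, O₂, e₃, e₄, ?_, m3, eq_of_beq h3, eq_of_beq h4, hl, fun w hw c hc => ?_⟩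
  · rw [e, m1, m2]
  · obtain ⟨d, hd, e'⟩ := hcl w hw c hc
    exact e' ▸ hd

theorem chainWOK_tail {b : ℕ} {W : List (List ℕ)} {O : List (ℕ × ℕ × ℕ)}
    {t : List (ℕ × List (List ℕ) × List (ℕ × ℕ × ℕ))} {fx : List ℕ}
    (h : table.chainWOK ((b, W, O) :: t) fx = true) :
    table.chainWOK t (b :: fx) = true ∧ ∀ w ∈ W, ∀ c ∈ fx, table.imgW w c = c := by
  simp only [PTab.chainWOK, Bool.and_eq_true, List.all_eq_true, Nat.beq_eq] at h
  exact ⟨h.2, fun w hw c hc => (h.1.1.2 w hw).2 c hc⟩

/-- The stabiliser of the base point and of a second point. -/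
noncomputable def stab2 (u : Fin table.N) : Subgroup (Equiv.Perm (Fin table.N)) :=
  imH ⊓ MulAction.stabilizer (Equiv.Perm (Fin table.N)) u

theorem stab2_orbit {k : ON} (h0 : hom k pt = pt) (u : Fin table.N)
    (hu : (u : ℕ) = t5.getD 1 0) (h1 : hom k u = u) (v : Fin table.N) (hv : (v : ℕ) = t5.getD 2 0) :
    (hom k v : Fin table.N).val ∈ orbit84 := by
  classical
  obtain ⟨W₁, W, O₁, O₂, e₃, e₄, e, -, h3, h4, hl, hcl⟩ := five_shape
  obtain ⟨hc, -, -, hp1, hp2, hW⟩ := five_facts
  rw [e] at hc hp1 hp2 hW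
  obtain ⟨hc2, -⟩ := chainWOK_tail hc
  let A : Subgroup (Equiv.Perm (Fin table.N)) :=
    Subgroup.closure ((fun w => hom (el w)) '' {w | w ∈ W})
  have hWok : ∀ w ∈ W, okW w = true := fun w hw => (inner_spec (hW (t5.getD 2 0, W, O₂) (by simp) w hw).1).2
  have hflat : ∀ l : List ℕ, (∀ i ∈ l, i < W.length) →
      hom (el (l.map fun i => W.getD i []).flatten) ∈ A := by
    intro l
    induction l with
    | nil => intro _; rw [List.map_nil, List.flatten_nil, el_nil, map_one]; exact one_mem _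
    | cons i l ih =>
      intro hl
      rw [List.map_cons, List.flatten_cons, el_append, map_mul]
      refine mul_mem (ih fun j hj => hl j (List.mem_cons_of_mem _ hj)) (Subgroup.subset_closure ?_)
      have hi := hl i List.mem_cons_self
      exact ⟨W.getD i [], by
        show W.getD i [] ∈ W
        rw [List.getD_eq_getElem _ _ hi]
        exact List.getElem_mem hi, rfl⟩
  have hA : A ≤ stab2 u := by
    rw [Subgroup.closure_le]
    rintro _ ⟨w, hw, rfl⟩
    refine ⟨mem_imH_of_inner (hW (t5.getD 2 0, W, O₂) (by simp) w hw).1, Fin.ext ?_⟩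
    show (hom (el w) u : Fin table.N).val = u
    rw [show (hom (el w) u : Fin table.N).val = table.imgW w u from
      PTab.hom_imgW hom_acts w (okW_spec (hWok w hw)) u, hu]
    exact (chainWOK_tail hc2).2 w hw _ (by simp)
  have hlow : 672 ≤ Nat.card A := by
    have := card_chain_le (Z := ⊥) (P := A) hc2 (fun e he w hw => ?_) bot_le
      (fun e _ u _ z hz => by rw [Subgroup.mem_bot.1 hz]; rfl)
    · rw [Subgroup.card_bot, one_mul] at this
      exact hp2.symm.trans_le this
    · simp only [List.mem_cons, List.not_mem_nil, or_false] at he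
      rcases he with rfl | rfl | rfl
      · exact Subgroup.subset_closure ⟨w, hw, rfl⟩
      · rw [h3, List.mem_map] at hw
        obtain ⟨l, hl', rfl⟩ := hw
        exact hflat l fun i hi => hl l (List.mem_append_left _ hl') i hi
      · rw [h4, List.mem_map] at hw
        obtain ⟨l, hl', rfl⟩ := hw
        exact hflat l fun i hi => hl l (List.mem_append_right _ hl') i hi
  have hhigh : Nat.card (stab2 u) ≤ 672 := by
    have hc1 : table.chainWOK [(t5.getD 1 0, W₁, O₁)] [0] = true := by
      simp only [PTab.chainWOK, Bool.and_eq_true, Bool.and_true] at hc ⊢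
      exact hc.1
    have := card_chain_le (Z := stab2 u) (P := imH) hc1 (fun e he w hw => ?_) inf_le_left
      (fun e he x hx z hz => ?_)
    · rw [card_imH, show PTab.chainWProd [(t5.getD 1 0, W₁, O₁)] = 5586 from hp1] at this
      omega
    · rw [List.mem_singleton] at he
      subst he
      exact mem_imH_of_inner (hW _ (by simp) w hw).1
    · rw [List.mem_singleton] at he
      subst he
      rw [show x = u from Fin.ext (hx.trans hu.symm)]
      exact hz.2
  have heq : A = stab2 u := Subgroup.eq_of_le_of_card_ge hA (hhigh.trans hlow)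
  have hk : hom k ∈ A := heq ▸ (⟨mem_imH h0, h1⟩ : hom k ∈ stab2 u)
  let S : Finset (Fin table.N) := Finset.univ.filter fun x => (x : ℕ) ∈ orbit84
  have hgoal : ∀ x ∈ S, hom k x ∈ S := by
    generalize hom k = π at hk
    induction hk using Subgroup.closure_induction with
    | mem π hπ =>
      obtain ⟨w, hw, rfl⟩ := hπ
      intro x hx
      simp only [S, Finset.mem_filter, Finset.mem_univ, true_and] at hx ⊢
      rw [img_el (hWok w hw)]
      exact hcl w hw _ hx
    | one => intro x hx; simpa using hx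
    | mul a b _ _ ha hb => intro x hx; rw [Equiv.Perm.mul_apply]; exact ha _ (hb x hx)
    | inv a _ ha =>
      intro x hx
      have himg : S.image a = S :=
        Finset.eq_of_subset_of_card_le (Finset.image_subset_iff.2 ha)
          (by rw [Finset.card_image_of_injective _ a.injective])
      rw [← himg, Finset.mem_image] at hx
      obtain ⟨y, hy, rfl⟩ := hx
      rwa [Equiv.Perm.inv_def, Equiv.symm_apply_apply]
  have hvS : v ∈ S := by
    simp only [S, Finset.mem_filter, Finset.mem_univ, true_and, hv, orbit84, e]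
    simp
  simpa [S] using hgoal v hvS

theorem not_other {q : ON} (hf : Commute q F)
    (h : hom q ⟨pz, point_facts.1⟩ = ⟨p2, point_facts.2.1⟩) : False := by
  obtain ⟨hp, hp2, -, hn, -, -, -, hup, hup2, hu1, hu2, hg, -, -, ht, -⟩ := point_facts
  have hr := refute_ok
  simp only [refuteK, Bool.and_eq_true, Nat.beq_eq, Bool.not_eq_true', List.any_eq_false] at hr
  obtain ⟨⟨hg0, hg1⟩, hnot⟩ := hr
  let k : ON := (el g1W)⁻¹ * (el up2W)⁻¹ * q * el upW
  have him : ∀ j < 5, ∀ u : Fin table.N, (u : ℕ) = t5.getD j 0 →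
      (hom k u : Fin table.N).val = runW (invW g1W) (runW (invW up2W) ((fiveCyc p2).getD j 0)) := by
    intro j hj u hu
    have e1 : hom (el upW) u = hom (F ^ j) ⟨pz, hp⟩ := by
      have e0 : hom (el upW)⁻¹ (hom (F ^ j) ⟨pz, hp⟩) = u := Fin.ext (by
        rw [← el_invW (okW_spec hu1), img_el (by decide), F_apply, hu, ← ht j hj, fiveCyc_getD _ hj])
      rw [← e0, map_inv, Equiv.Perm.inv_def, Equiv.apply_symm_apply]
    show (hom (_ * _ * q * _) u : Fin table.N).val = _
    rw [map_mul, map_mul, map_mul, Equiv.Perm.mul_apply, Equiv.Perm.mul_apply, Equiv.Perm.mul_apply, e1,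
      hom_comm (hf.pow_right j), h, ← el_invW (okW_spec hg), ← el_invW (okW_spec hu2),
      img_el (by decide), img_el (by decide), F_apply, fiveCyc_getD _ hj]
  have h0 : hom k pt = pt := by
    have e1 : hom (el upW) pt = ⟨pz, hp⟩ := Fin.ext ((img_el hu1 _).trans hup)
    have e2 : hom (el up2W)⁻¹ ⟨p2, hp2⟩ = pt := by
      rw [← show hom (el up2W) pt = ⟨p2, hp2⟩ from Fin.ext ((img_el hu2 _).trans hup2),
        hom_inv]
    have e3 : hom (el g1W)⁻¹ pt = pt := by
      nth_rewrite 1 [← show hom (el g1W) pt = pt from Fin.ext ((img_el hg _).trans hg0)]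
      rw [hom_inv]
    show hom (_ * _ * q * _) _ = _
    rw [map_mul, map_mul, map_mul, Equiv.Perm.mul_apply, Equiv.Perm.mul_apply, Equiv.Perm.mul_apply, e1,
      h, e2, e3]
  have ht1 : t5.getD 1 0 < table.N := by decide
  have ht2 : t5.getD 2 0 < table.N := by decide
  have h1 : hom k ⟨_, ht1⟩ = ⟨_, ht1⟩ := Fin.ext (by
    rw [him 1 (by norm_num) _ rfl, ← hg1]
    have e := img_el hg ⟨_, ht1⟩
    rw [← e, ← img_el (L := invW g1W) (by decide), el_invW (okW_spec hg), hom_inv])
  have hm := stab2_orbit h0 ⟨_, ht1⟩ rfl h1 ⟨_, ht2⟩ rfl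
  rw [him 2 (by norm_num) _ rfl] at hm
  exact hnot _ hm rfl

/-- The elements fixing four points of the five cycle. -/
noncomputable def fix5 : Subgroup ON :=
  ⨅ j : Fin 4, (MulAction.stabilizer (Equiv.Perm (Fin table.N))
    (hom (F ^ (j : ℕ)) ⟨pz, point_facts.1⟩)).comap hom

theorem card_fix5 : Nat.card (fix5) ≤ 4 := by
  have := finite
  obtain ⟨hp, -, -, -, -, -, -, hup, -, hu1, -, -, -, -, ht, -⟩ := point_facts
  obtain ⟨W₁, W, O₁, O₂, e₃, e₄, e, he3, -⟩ := five_shape
  obtain ⟨hc, -, hp3, -, -, hW⟩ := five_facts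
  rw [e] at hc hp3 hW
  let Z' : Subgroup (Equiv.Perm (Fin table.N)) :=
    ((fix5).map (MulAut.conj (el upW)⁻¹).toMonoidHom).map hom
  have hcard : Nat.card Z' = Nat.card (fix5) := by
    rw [Subgroup.card_map_of_injective card_eq.2,
      Subgroup.card_map_of_injective (MulAut.conj (el upW)⁻¹).injective]
  have hz : ∀ z ∈ Z', ∀ j < 4, ∀ u : Fin table.N, (u : ℕ) = t5.getD j 0 → z u = u := by
    rintro z ⟨_, ⟨g, hg, rfl⟩, rfl⟩ j hj u hu
    have hfix : hom g (hom (F ^ j) ⟨pz, hp⟩) = hom (F ^ j) ⟨pz, hp⟩ :=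
      (Subgroup.mem_iInf.1 hg ⟨j, hj⟩)
    have e0 : hom (el upW)⁻¹ (hom (F ^ j) ⟨pz, hp⟩) = u := Fin.ext (by
      rw [← el_invW (okW_spec hu1), img_el (by decide), F_apply, hu, ← ht j (by omega),
        fiveCyc_getD _ (by omega : j < 5)])
    show hom ((el upW)⁻¹ * g * (el upW)⁻¹⁻¹) u = u
    rw [← e0, inv_inv, map_mul, map_mul, Equiv.Perm.mul_apply, Equiv.Perm.mul_apply]
    simp only [map_inv, Equiv.Perm.inv_def, Equiv.apply_symm_apply, hfix]
  have hc3 : table.chainWOK [(t5.getD 1 0, W₁, O₁), (t5.getD 2 0, W, O₂), e₃] [0] = true := by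
    obtain ⟨b, W', O'⟩ := e₃
    simp only [PTab.chainWOK, Bool.and_eq_true, Bool.and_true] at hc ⊢
    exact ⟨hc.1, hc.2.1, hc.2.2.1⟩
  have h0 : t5.getD 0 0 = 0 := by decide
  have := card_chain_le (Z := Z') (P := imH) hc3 (fun x hx w hw => ?_)
    (fun z hz' => by
      have h := hz z hz' 0 (by norm_num) pt h0.symm
      obtain ⟨a, -, rfl⟩ := hz'
      exact mem_imH h)
    (fun x hx u hu z hz' => ?_)
  · rw [card_imH, show PTab.chainWProd [(t5.getD 1 0, W₁, O₁), (t5.getD 2 0, W, O₂), e₃] = 938448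
      from hp3, hcard] at this
    exact Nat.le_of_mul_le_mul_right (this.trans_eq (show 3753792 = 4 * 938448 by norm_num)) (by norm_num)
  · have hx' : x ∈ [(t5.getD 1 0, W₁, O₁), (t5.getD 2 0, W, O₂), e₃, e₄] := by
      simp only [List.mem_cons, List.not_mem_nil, or_false] at hx ⊢; tauto
    exact mem_imH_of_inner (hW x hx' w hw).1
  · simp only [List.mem_cons, List.not_mem_nil, or_false] at hx
    rcases hx with rfl | rfl | rfl
    · exact hz z hz' 1 (by norm_num) u hu
    · exact hz z hz' 2 (by norm_num) u hu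
    · exact hz z hz' 3 (by norm_num) u (hu.trans he3)

theorem fix5_cases {q : ON} (hq : q ∈ fix5) : ∃ s ∈ sWs, q = el (unp s) := by
  have := finite
  have h := s_ok
  simp only [sK, Bool.and_eq_true, List.all_eq_true, List.mem_range, Nat.beq_eq, Bool.not_eq_true',
    beq_eq_false_iff_ne] at h
  obtain ⟨⟨hs, hlen⟩, hne⟩ := h
  let f : Fin 4 → ON := fun i => el (unp (sWs.getD i (0, 0)))
  have hmemS : ∀ i : Fin 4, sWs.getD i (0, 0) ∈ sWs := fun i => by
    rw [List.getD_eq_getElem _ _ (by omega)]; exact List.getElem_mem _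
  have hmem : ∀ i, f i ∈ fix5 := by
    intro i
    refine Subgroup.mem_iInf.2 fun j => ?_
    obtain ⟨hok, hfix⟩ := hs _ (hmemS i)
    refine Fin.ext ?_
    show (hom (f i) _ : Fin table.N).val = _
    rw [img_el hok, F_apply]
    have := hfix j j.2
    rwa [fiveCyc_getD _ (by omega : (j : ℕ) < 5)] at this
  have hinj : Function.Injective f := by
    intro i j e
    by_contra hij
    have hb : b1 < table.N ∧ b2 < table.N := by decide +kernel
    have key : ∀ u : Fin table.N, runW (unp (sWs.getD i (0, 0))) u = runW (unp (sWs.getD j (0, 0))) u :=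
      fun u => by
        rw [← img_el (hs _ (hmemS i)).1, ← img_el (hs _ (hmemS j)).1]
        exact congrArg (fun g => (hom g u : Fin table.N).val) e
    have e' : [runW (unp (sWs.getD i (0, 0))) 0, runW (unp (sWs.getD i (0, 0))) b1,
        runW (unp (sWs.getD i (0, 0))) b2] = [runW (unp (sWs.getD j (0, 0))) 0,
        runW (unp (sWs.getD j (0, 0))) b1, runW (unp (sWs.getD j (0, 0))) b2] := by
      rw [show runW (unp (sWs.getD i (0, 0))) 0 = runW (unp (sWs.getD j (0, 0))) 0 from key pt,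
        show runW (unp (sWs.getD i (0, 0))) b1 = runW (unp (sWs.getD j (0, 0))) b1 from key ⟨b1, hb.1⟩,
        show runW (unp (sWs.getD i (0, 0))) b2 = runW (unp (sWs.getD j (0, 0))) b2 from key ⟨b2, hb.2⟩]
    have hget : ∀ k < 4, (sWs.map fun s => [runW (unp s) 0, runW (unp s) b1, runW (unp s) b2]).getD k [] =
        [runW (unp (sWs.getD k (0, 0))) 0, runW (unp (sWs.getD k (0, 0))) b1,
          runW (unp (sWs.getD k (0, 0))) b2] := fun k hk => by
      rw [List.getD_eq_getElem _ _ (by rw [List.length_map]; omega), List.getElem_map,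
        List.getD_eq_getElem _ _ (by omega)]
    rcases lt_or_gt_of_ne (fun h => hij (Fin.ext h)) with hl | hl
    · exact hne j j.2 i hl (by rw [hget j j.2, hget i i.2]; exact e'.symm)
    · exact hne i i.2 j hl (by rw [hget j j.2, hget i i.2]; exact e')
  let g : Fin 4 → fix5 := fun i => ⟨f i, hmem i⟩
  have hg : Function.Injective g := fun i j e => hinj (congrArg Subtype.val e)
  obtain ⟨i, hi⟩ := (Nat.bijective_iff_injective_and_card g).2
    ⟨hg, le_antisymm (Nat.card_le_card_of_injective g hg) (by simpa using card_fix5)⟩ |>.2 ⟨q, hq⟩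
  exact ⟨_, hmemS i, (congrArg Subtype.val hi).symm⟩

theorem cent_cases {q : ON} (hz : Commute q Z) (hf : Commute q F) :
    ∃ c ∈ candWs, q = el c := by
  obtain ⟨k, b, hb, hq⟩ := image_cases hz hf
  let q' : ON := (F ^ k)⁻¹ * q
  have hq' : Commute q' F := ((Commute.refl F).pow_left k).inv_left.mul_left hf
  have h' : hom q' ⟨pz, point_facts.1⟩ = b := by
    show hom ((F ^ k)⁻¹ * q) _ = b
    rw [map_mul, Equiv.Perm.mul_apply, hq, hom_inv]
  rcases hb with hb | hb
  · have hmem : q' ∈ fix5 := Subgroup.mem_iInf.2 fun j => by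
      show hom q' _ = _
      rw [hom_comm (hq'.pow_right _), h']
      exact congrArg _ (Fin.ext hb)
    obtain ⟨s, hs, e⟩ := fix5_cases hmem
    have h5 : F ^ 5 = 1 := by
      have h : sameK (List.replicate 5 n2W).flatten [] = true := by decide +kernel
      have := eq_of_sameK h
      rwa [el_flatten, el_nil] at this
    refine ⟨unp s ++ (List.replicate (k % 5) n2W).flatten,
      List.mem_flatMap.2 ⟨s, hs, List.mem_map.2 ⟨k % 5, List.mem_range.2 (Nat.mod_lt _ (by norm_num)), rfl⟩⟩, ?_⟩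
    rw [el_append, el_flatten, ← e]
    show q = F ^ (k % 5) * ((F ^ k)⁻¹ * q)
    rw [← pow_eq_pow_mod k h5, mul_inv_cancel_left]
  · exact (not_other hq' (h'.trans (Fin.ext hb))).elim

end CfsgLib.Sporadic.CosetCert.ONP.OutON
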