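import Cfsg.Agent.Lib.Sporadic.ONOut.Inv
import Cfsg.Agent.Lib.Sporadic.OutCert.Out

/-!
The outer automorphism group of the presented O'Nan group has order two.
-/

set_option autoImplicit false
set_option maxRecDepth 100000

open Cfsg.Spor

namespace CfsgLib.Sporadic.CosetCert.ONP.OutON

open ONData (table forest)

attribute [local irreducible] runW walk PTab.img

/-- The element of order ten. -/
noncomputable def Nn : ON := el nW

/-- The element of order four. -/
noncomputable def Y : ON := el yW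

theorem tny_words : okW tW = true ∧ okW nW = true ∧ okW yW = true ∧
    sameK (List.replicate 11 tW).flatten [] = true ∧ sameK tW [] = false ∧
    sameK (tW ++ nW) (nW ++ (List.replicate 2 tW).flatten) = true ∧
    sameK zW (List.replicate 5 nW).flatten = true ∧ sameK n2W (nW ++ nW) = true ∧
    sameK (yW ++ yW) zW = true ∧ sameK zW [] = false ∧ sameK (yW ++ n2W) (n2W ++ yW) = true := by
  have h := tny_ok
  simp only [tnyK, Bool.and_eq_true, Bool.not_eq_true'] at h
  tauto

theorem T_pow11 : T ^ 11 = 1 := by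
  have := eq_of_sameK tny_words.2.2.2.1
  rwa [el_flatten, el_nil] at this

theorem T_ne_one : T ≠ 1 := by
  rw [← el_nil]; exact ne_of_sameK tny_words.1 rfl tny_words.2.2.2.2.1

theorem orderOf_T : orderOf T = 11 := by
  have : Fact (Nat.Prime 11) := ⟨by norm_num⟩
  exact orderOf_eq_prime (T_pow11) (T_ne_one)

theorem conj_n : Nn * T * Nn⁻¹ = T ^ 2 := by
  have := eq_of_sameK tny_words.2.2.2.2.2.1
  rw [el_append, el_append, el_flatten] at this
  rw [show Nn * T = T ^ 2 * Nn from this, mul_inv_cancel_right]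

theorem conj_n_pow (j : ℕ) : ∀ k : ℕ, Nn ^ k * T ^ j * (Nn ^ k)⁻¹ = T ^ (2 ^ k * j) := by
  intro k
  induction k with
  | zero => simp
  | succ k ih =>
    calc Nn ^ (k + 1) * T ^ j * (Nn ^ (k + 1))⁻¹
        = Nn * (Nn ^ k * T ^ j * (Nn ^ k)⁻¹) * Nn⁻¹ := by rw [pow_succ']; group
      _ = (Nn * T * Nn⁻¹) ^ (2 ^ k * j) := by rw [ih, conj_pow]
      _ = T ^ (2 ^ (k + 1) * j) := by rw [conj_n, ← pow_mul]; ring_nf

theorem T_pow_mod (i : ℕ) : T ^ (i % 11) = T ^ i := by rw [← orderOf_T, pow_mod_orderOf]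

theorem n_pow_T (i : ℕ) : T ^ (2 * i) * (Nn * T ^ i) * (T ^ (2 * i))⁻¹ = Nn := by
  have h := conj_n_pow i 1
  rw [pow_one, pow_one] at h
  calc T ^ (2 * i) * (Nn * T ^ i) * (T ^ (2 * i))⁻¹
      = T ^ (2 * i) * (Nn * T ^ i * (T ^ i * T ^ i)⁻¹ * Nn⁻¹) * Nn := by rw [← pow_add, ← two_mul]; group
    _ = T ^ (2 * i) * (Nn * T ^ i * Nn⁻¹)⁻¹ * Nn := by group
    _ = Nn := by rw [h, mul_inv_cancel, one_mul]

theorem Z_eq : Z = Nn ^ 5 := by
  have := eq_of_sameK tny_words.2.2.2.2.2.2.1
  rwa [el_flatten] at this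

theorem F_eq : F = Nn ^ 2 := by
  have := eq_of_sameK tny_words.2.2.2.2.2.2.2.1
  rw [el_append, ← pow_two] at this
  exact this

theorem Y_sq : Y * Y = Z := by
  have := eq_of_sameK tny_words.2.2.2.2.2.2.2.2.1
  rwa [el_append] at this

theorem Y_comm : Commute Y F := by
  have := eq_of_sameK tny_words.2.2.2.2.2.2.2.2.2.2
  rw [el_append, el_append] at this
  exact this.symm

theorem Y_ne_inv : Y ≠ Y⁻¹ := by
  intro e
  apply ne_of_sameK point_facts.2.2.1 rfl tny_words.2.2.2.2.2.2.2.2.2.1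
  rw [el_nil]
  show Z = 1
  rw [← Y_sq]
  nth_rewrite 2 [e]
  rw [mul_inv_cancel]

theorem fixed_eq_one {β : MulAut ON} (hT : β T = T) (hn : β Nn = Nn) (hy : β Y = Y) : β = 1 := by
  have h := slp_ok
  simp only [slpK, Bool.and_eq_true, List.all_eq_true, List.mem_range, Nat.beq_eq, Nat.blt_eq] at h
  obtain ⟨⟨⟨⟨⟨⟨⟨⟨⟨⟨hw, e0⟩, e1⟩, e2⟩, e3⟩, e4⟩, e5⟩, hlen⟩, hstep⟩, hlt⟩, htop⟩ := h
  obtain ⟨hT', hn', hy', -⟩ := tny_words
  have key : ∀ i < slpWs.length, β (el (slpAt i)) = el (slpAt i) := by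
    intro i
    induction i using Nat.strong_induction_on with
    | _ i ih =>
      intro hi
      rcases Nat.lt_or_ge i 6 with h6 | h6
      · have hTi : β (el (invW tW)) = el (invW tW) := by
          rw [el_invW (okW_spec hT'), map_inv]; exact congrArg _ hT
        have hni : β (el (invW nW)) = el (invW nW) := by
          rw [el_invW (okW_spec hn'), map_inv]; exact congrArg _ hn
        have hyi : β (el (invW yW)) = el (invW yW) := by
          rw [el_invW (okW_spec hy'), map_inv]; exact congrArg _ hy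
        interval_cases i
        · rw [eq_of_sameK e0]; exact hT
        · rw [eq_of_sameK e1]; exact hn
        · rw [eq_of_sameK e2]; exact hy
        · rw [eq_of_sameK e3]; exact hTi
        · rw [eq_of_sameK e4]; exact hni
        · rw [eq_of_sameK e5]; exact hyi
      · obtain ⟨j, rfl⟩ := Nat.exists_eq_add_of_le h6
        obtain ⟨⟨ha, hb⟩, hab⟩ := hstep j (by omega)
        rw [← eq_of_sameK hab, el_append, map_mul, ih _ hb (by omega), ih _ ha (by omega)]
  have h2 : β.toMonoidHom = MonoidHom.id ON := by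
    refine PresentedGroup.ext fun a => ?_
    show β (PresentedGroup.of a) = PresentedGroup.of a
    have hc : code a < 8 := by cases a <;> decide
    obtain ⟨h1, h2⟩ := htop _ hc
    rw [← coding.gen_code a, show coding.code a = code a from rfl, ← el_single, ← eq_of_sameK h2]
    exact key _ h1
  exact MulEquiv.ext fun a => DFunLike.congr_fun h2 a

/-- The letters of the images. -/
noncomputable def symGen (x : ℕ) : ON := el (symAt x)

theorem el_symWord (L : List ℕ) : el (symWord L) = appProd symGen L := by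
  induction L with
  | nil => rfl
  | cons x t ih =>
    rw [symWord, List.flatMap_cons, el_append]
    show el (symWord t) * symGen x = _
    rw [ih]
    rfl

theorem sym_facts : symWs.length = 8 ∧ (∀ i < 8, okW (symAt i) = true) ∧
    sameK (symAt 1) (invW (symAt 0)) = true ∧
    (∀ i ∈ [2, 3, 4, 5, 6, 7], sameK (invW (symAt i)) (symAt i) = true) ∧
    (∀ r ∈ allRels, sameK (symWord (appWord code cinv r)) [] = true) ∧
    sameK (symWord tW) tW = true ∧ sameK (symWord nW) nW = true ∧
    sameK (symWord yW) (invW yW) = true := by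
  have h := sym_ok
  simp only [symK, Bool.and_eq_true, List.all_eq_true, Nat.beq_eq] at h
  obtain ⟨⟨⟨⟨⟨⟨⟨hlen, hok⟩, h1⟩, h2⟩, h3⟩, hT⟩, hn⟩, hy⟩ := h
  refine ⟨hlen, fun i hi => hok _ ?_, h1, h2, h3, hT, hn, hy⟩
  rw [List.getD_eq_getElem _ _ (by omega)]
  exact List.getElem_mem _

theorem symGen_cinv (a : ON.Gen) : symGen (cinv a) = (symGen (code a))⁻¹ := by
  obtain ⟨-, hok, h1, h2, -⟩ := sym_facts
  by_cases hg : a = ON.Gen.g
  · subst hg
    exact (eq_of_sameK h1).trans (el_invW (okW_spec (hok 0 (by norm_num))))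
  · have hmem : code a ∈ [2, 3, 4, 5, 6, 7] ∧ cinv a = code a := by
      cases a <;> first | exact absurd rfl hg | decide
    have hlt : code a < 8 := by cases a <;> decide
    rw [hmem.2]
    exact (eq_of_sameK (h2 _ hmem.1)).symm.trans (el_invW (okW_spec (hok _ hlt)))

theorem sym_rel : ∀ r ∈ coxRelators ON.edges ∪ {r | r ∈ ON.extra},
    FreeGroup.lift (fun a => symGen (code a)) r = 1 := by
  refine lift_cox_eq_one _ coding.pairs_cover fun r hr => ?_
  rw [lift_eq_appProd (fun a => symGen (code a)) symGen code cinv (fun _ => rfl) symGen_cinv r,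
    ← el_symWord]
  exact (eq_of_sameK (sym_facts.2.2.2.2.1 r hr)).trans el_nil

/-- The homomorphism of the symmetry. -/
noncomputable def symHom : ON →* ON := PresentedGroup.toGroup (sym_rel)

theorem symHom_el {L : List ℕ} (hL : okW L = true) : symHom (el L) = el (symWord L) := by
  rw [el_symWord]
  induction L with
  | nil => exact map_one _
  | cons x t ih =>
    simp only [okW, List.all_cons, Bool.and_eq_true, Nat.blt_eq] at hL
    show symHom (el t * coding.gen x) = appProd symGen t * symGen x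
    rw [map_mul, ih (by simpa [okW] using hL.2)]
    congr 1
    have hof : ∀ a, symHom (PresentedGroup.of a) = symGen (code a) :=
      fun a => PresentedGroup.toGroup.of (sym_rel)
    have hx8 : x < 8 := hL.1
    by_cases hx : x = 1
    · subst hx
      rw [show coding.gen 1 = (PresentedGroup.of ON.Gen.g : ON)⁻¹ from coding.gen_cinv ON.Gen.g, map_inv,
        hof]
      exact (symGen_cinv ON.Gen.g).symm
    · obtain ⟨a, rfl⟩ : ∃ a : ON.Gen, code a = x := ⟨genAt x,
        (show ∀ y < 8, y ≠ 1 → code (genAt y) = y by decide) x hx8 hx⟩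
      rw [show coding.gen (code a) = PresentedGroup.of a from coding.gen_code a, hof]

theorem sym_values : symHom T = T ∧ symHom Nn = Nn ∧ symHom Y = Y⁻¹ := by
  obtain ⟨-, -, -, -, -, hT, hn, hy⟩ := sym_facts
  obtain ⟨hT', hn', hy', -⟩ := tny_words
  refine ⟨?_, ?_, ?_⟩
  · rw [T, symHom_el hT', eq_of_sameK hT]
  · rw [Nn, symHom_el hn', eq_of_sameK hn]
  · rw [Y, symHom_el hy', eq_of_sameK hy, el_invW (okW_spec hy')]

/-- The automorphism of the symmetry. -/
noncomputable def sym : MulAut ON :=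
  MulEquiv.ofBijective (symHom) (by
    have := finite
    have := isSimple
    refine Finite.injective_iff_bijective.1 ?_
    rcases (MonoidHom.normal_ker (symHom)).eq_bot_or_eq_top with h | h
    · exact (MonoidHom.ker_eq_bot_iff _).1 h
    · have h1 : T ∈ (symHom).ker := by rw [h]; trivial
      exact absurd ((sym_values).1.symm.trans h1) (T_ne_one))

theorem sym_not_inner : sym ∉ Cfsg.Inn ON := by
  rintro ⟨q, hq⟩
  obtain ⟨hT, hn, hy⟩ := sym_values
  have e : ∀ a, q * a * q⁻¹ = symHom a := fun a => DFunLike.congr_fun hq a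
  obtain ⟨i, rfl⟩ := cent_T (q := q) (by
    show _ = _
    rw [← mul_inv_eq_iff_eq_mul, e, hT])
  have hN : T ^ i * Nn * (T ^ i)⁻¹ = Nn := (e Nn).trans hn
  have hTi : T ^ i = 1 := by
    have h := conj_n_pow i 1
    rw [pow_one, pow_one] at h
    have h2 : T ^ (2 * i) = T ^ i := by
      rw [← h]
      rw [mul_inv_eq_iff_eq_mul] at hN ⊢
      exact hN.symm
    rw [two_mul, pow_add] at h2
    exact mul_eq_right.1 h2
  have h := (e Y).trans hy
  rw [hTi, one_mul, inv_one, mul_one] at h
  exact Y_ne_inv h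

theorem aut_cases (α : MulAut ON) : α ∈ Cfsg.Inn ON ∨ sym * α ∈ Cfsg.Inn ON := by
  have := finite
  have : Fact (Nat.Prime 11) := ⟨by norm_num⟩
  have h11 : ¬ 11 ^ 2 ∣ Nat.card ON := by rw [card_eq.1]; norm_num
  obtain ⟨g, j, hj0, hj11, hg⟩ := OutCert.exists_conj_pow h11 (orderOf_T)
    ((MulEquiv.orderOf_eq α T).trans (orderOf_T))
  obtain ⟨k, -, hk⟩ : ∃ k < 10, 2 ^ k * j % 11 = 1 :=
    (by decide : ∀ j < 11, 0 < j → ∃ k < 10, 2 ^ k * j % 11 = 1) j hj11 hj0
  let β : MulAut ON := MulAut.conj (Nn ^ k * g) * α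
  have hβT : β T = T := by
    show MulAut.conj (Nn ^ k * g) (α T) = _
    rw [MulAut.conj_apply, show Nn ^ k * g * α T * (Nn ^ k * g)⁻¹ = Nn ^ k * (g * α T * g⁻¹) * (Nn ^ k)⁻¹ by
      group, hg, conj_n_pow, ← T_pow_mod, hk, pow_one]
  obtain ⟨i, hi⟩ := cent_T (q := Nn⁻¹ * β Nn) (by
    have h1 : β Nn * T * (β Nn)⁻¹ = Nn * T * Nn⁻¹ := by
      nth_rewrite 1 [← hβT]
      rw [← map_inv, ← map_mul, ← map_mul, conj_n, map_pow, hβT]
    show _ = _
    calc Nn⁻¹ * β Nn * T = Nn⁻¹ * (β Nn * T * (β Nn)⁻¹) * β Nn := by group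
      _ = T * (Nn⁻¹ * β Nn) := by rw [h1]; group)
  let γ : MulAut ON := MulAut.conj (T ^ (2 * i)) * β
  have hγT : γ T = T := by
    show MulAut.conj (T ^ (2 * i)) (β T) = T
    rw [hβT, MulAut.conj_apply, (Commute.refl T).pow_left (2 * i) |>.eq, mul_inv_cancel_right]
  have hγn : γ Nn = Nn := by
    show MulAut.conj (T ^ (2 * i)) (β Nn) = Nn
    rw [MulAut.conj_apply, show β Nn = Nn * T ^ i by rw [← hi, mul_inv_cancel_left], n_pow_T]
  have hγZ : γ Z = Z := by rw [Z_eq, map_pow, hγn]
  have hγF : γ F = F := by rw [F_eq, map_pow, hγn]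
  have hYZ : Commute Y Z := by
    show _ = _
    rw [← Y_sq, mul_assoc]
  obtain ⟨c, hc, e⟩ := cent_cases (q := γ Y)
    (by have := hYZ.map γ.toMonoidHom; simpa [hγZ] using this)
    (by have := (Y_comm).map γ.toMonoidHom; simpa [hγF] using this)
  have hy : γ Y = Y ∨ γ Y = Y⁻¹ := by
    have hr := root_ok
    simp only [rootK, List.all_eq_true, Bool.or_eq_true, Bool.not_eq_true'] at hr
    have hokc : okW c = true := by
      have h : ∀ c ∈ candWs, okW c = true := by decide +kernel
      exact h c hc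
    rcases hr c hc with (h | h) | h
    · refine absurd ?_ (ne_of_sameK (okW_append hokc hokc) point_facts.2.2.1 h)
      rw [el_append, ← e, ← map_mul, Y_sq]
      exact hγZ
    · exact Or.inl (e.trans (eq_of_sameK h))
    · refine Or.inr (e.trans ?_)
      rw [eq_of_sameK h, el_invW (okW_spec tny_words.2.2.1)]
      rfl
  obtain ⟨hsT, hsn, hsy⟩ := sym_values
  have hinn : ∀ δ : MulAut ON, δ = MulAut.conj (T ^ (2 * i) * (Nn ^ k * g)) → δ ∈ Cfsg.Inn ON :=
    fun δ h => ⟨_, h.symm⟩
  have hγ : γ = MulAut.conj (T ^ (2 * i) * (Nn ^ k * g)) * α := by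
    simp only [γ, β, map_mul, mul_assoc]
  rcases hy with hy | hy
  · left
    have h1 := fixed_eq_one hγT hγn hy
    rw [hγ] at h1
    rw [eq_inv_of_mul_eq_one_right h1]
    exact inv_mem (hinn _ rfl)
  · right
    have h1 : sym * γ = 1 := fixed_eq_one
      (show symHom (γ T) = T by rw [hγT, hsT]) (show symHom (γ Nn) = Nn by rw [hγn, hsn])
      (show symHom (γ Y) = Y by rw [hy, map_inv, hsy, inv_inv])
    have h2 : sym * α = (sym * MulAut.conj (T ^ (2 * i) * (Nn ^ k * g)) * (sym)⁻¹)⁻¹ := by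
      refine eq_inv_of_mul_eq_one_right ?_
      rw [hγ] at h1
      rw [← mul_assoc, inv_mul_cancel_right, mul_assoc]
      exact h1
    rw [h2]
    exact inv_mem ((Cfsg.innNormal ON).conj_mem _ (hinn _ rfl) _)

theorem card_out : Nat.card (Cfsg.Out ON) = 2 := by
  rw [Nat.card_eq_two_iff]
  refine ⟨1, (QuotientGroup.mk (sym))⁻¹, fun e => sym_not_inner ((QuotientGroup.eq_one_iff _).1
    (inv_eq_one.1 e.symm)), Set.eq_univ_of_forall fun x => ?_⟩
  obtain ⟨α, rfl⟩ := QuotientGroup.mk_surjective x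
  rcases aut_cases α with h | h
  · exact Or.inl ((QuotientGroup.eq_one_iff α).2 h)
  · refine Or.inr (show _ = _ from ?_)
    exact (inv_eq_of_mul_eq_one_right ((QuotientGroup.eq_one_iff (sym * α)).2 h)).symm

end CfsgLib.Sporadic.CosetCert.ONP.OutON
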