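import Cfsg.Agent.Lib.Sporadic.ONOut.Base

/-!
Suborbits: carrying pairs of points to the base point.
-/

set_option autoImplicit false
set_option maxRecDepth 100000

open Cfsg.Spor

namespace CfsgLib.Sporadic.CosetCert.ONP.OutON

open ONData (table forest)

attribute [local irreducible] runW PTab.img

theorem type_invariant {k : ON} (hk : hom k pt = pt) (u : Fin table.N) :
    forest.cls (hom k u : Fin table.N) = forest.cls u := by
  have h : hom k u ∈ MulAction.orbit imH u := ⟨⟨hom k, mem_imH hk⟩, rfl⟩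
  rw [orbit_H u rfl] at h
  exact Forest.mem_classSet.1 (Finset.mem_coe.1 h)

theorem walk_spec : ∀ (f : ℕ) (v x : Fin table.N) (y : ℕ), walk f v x = y + 1 →
    ∃ h : ON, hom h v = pt ∧ ((hom h x : Fin table.N) : ℕ) = y := by
  intro f
  induction f with
  | zero =>
    intro v x y h
    change (bif Nat.beq (v : ℕ) 0 then Nat.succ (x : ℕ) else 0) = y + 1 at h
    rcases hv : Nat.beq (v : ℕ) 0 with _ | _
    · rw [hv] at h; simp at h
    · rw [hv, cond_true] at h
      refine ⟨1, ?_, ?_⟩
      · rw [map_one, Equiv.Perm.one_apply]; exact Fin.ext (Nat.eq_of_beq_eq_true hv)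
      · rw [map_one, Equiv.Perm.one_apply]; exact Nat.succ.inj h
  | succ f ih =>
    intro v x y h
    change (bif Nat.beq (v : ℕ) 0 then Nat.succ (x : ℕ) else
      frc (fun l => bif Nat.blt l 8 then
        frc (fun v' => frc (walk f v') (rowF l (x : ℕ))) (rowF l (v : ℕ)) else 0) (parAt v)) =
      y + 1 at h
    rcases hv : Nat.beq (v : ℕ) 0 with _ | _
    · rw [hv, cond_false, frc_eq] at h
      rcases hl : Nat.blt (parAt v) 8 with _ | _
      · rw [hl] at h; simp at h
      rw [hl, cond_true, frc_eq, frc_eq] at h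
      have hl8 : parAt v < table.nl := Nat.le_of_ble_eq_true hl
      rw [rowF, ← (ONData.table_fast _ hl8 v v.2).1, ← (ONData.table_fast _ hl8 x x.2).1,
        ← hom_acts.img_eq _ hl8 v, ← hom_acts.img_eq _ hl8 x] at h
      obtain ⟨k, hk1, hk2⟩ := ih _ _ y h
      exact ⟨k * coding.gen (parAt v), by rw [map_mul, Equiv.Perm.mul_apply, hk1],
        by rw [map_mul, Equiv.Perm.mul_apply, hk2]⟩
    · rw [hv, cond_true] at h
      refine ⟨1, ?_, ?_⟩
      · rw [map_one, Equiv.Perm.one_apply]; exact Fin.ext (Nat.eq_of_beq_eq_true hv)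
      · rw [map_one, Equiv.Perm.one_apply]; exact Nat.succ.inj h

theorem pairMay_of_pairIn {c : ℕ} {a b : Fin table.N} (h : pairIn c a b = true) (q : ON) :
    pairMay c (hom q a : Fin table.N) (hom q b : Fin table.N) = true := by
  simp only [pairIn, frc_eq, Bool.and_eq_true, Nat.blt_eq, Nat.beq_eq] at h
  obtain ⟨y, hy⟩ := Nat.exists_eq_succ_of_ne_zero (Nat.pos_iff_ne_zero.1 h.1)
  simp only [pairMay, frc_eq]
  rcases Nat.eq_zero_or_pos (walk 18 (hom q a : Fin table.N) (hom q b : Fin table.N)) with h0 | h0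
  · rw [h0]; rfl
  obtain ⟨z, hz⟩ := Nat.exists_eq_succ_of_ne_zero (Nat.pos_iff_ne_zero.1 h0)
  rw [hz]
  have hb : forest.cls y = c := by simpa [hy] using h.2
  obtain ⟨g, hg1, hg2⟩ := walk_spec 18 a b y hy
  obtain ⟨g', hg1', hg2'⟩ := walk_spec 18 _ _ z hz
  have hk : hom (g' * q * g⁻¹) pt = pt := by
    rw [map_mul, map_mul, Equiv.Perm.mul_apply, Equiv.Perm.mul_apply, map_inv, Equiv.Perm.inv_def,
      ← hg1, Equiv.symm_apply_apply, hg1', hg1]
  have := type_invariant hk (hom g b)
  rw [map_mul, map_mul, Equiv.Perm.mul_apply, Equiv.Perm.mul_apply, map_inv, Equiv.Perm.inv_def,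
    Equiv.symm_apply_apply, hg2', hg2, hb] at this
  simp [this]

end CfsgLib.Sporadic.CosetCert.ONP.OutON
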